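import Mathlib.RingTheory.AdicCompletion.Basic
import Mathlib.RingTheory.Filtration
import Mathlib.RingTheory.Noetherian.OfPrime
import Mathlib.Tactic.LinearCombination
import Mathlib.RingTheory.Noetherian.Basic
import Mathlib.RingTheory.Ideal.Quotient.Operations
import Mathlib.RingTheory.LocalRing.MaximalIdeal.Basic

/-! Square-zero extensions of complete Noetherian rings are Noetherian and complete. -/

universe u v

namespace H1SqZero

variable {A : Type u} {E : Type v} [CommRing A] [CommRing E] [IsNoetherianRing A]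
  (f : E →+* A) (hf : Function.Surjective f) (hsq : RingHom.ker f ^ 2 = ⊥) (hfg : (RingHom.ker f).FG)

include hf hsq hfg

theorem isNoetherianRing : IsNoetherianRing E := by
  refine IsNoetherianRing.of_prime fun P hP => ?_
  have hN : RingHom.ker f ≤ P := by
    intro x hx
    refine hP.mem_of_pow_mem 2 ?_
    have : x ^ 2 ∈ RingHom.ker f ^ 2 := Ideal.pow_mem_pow hx 2
    rw [hsq, Ideal.mem_bot] at this
    rw [this]; exact zero_mem _
  obtain ⟨t, ht⟩ := IsNoetherian.noetherian (P.map f)
  choose g hg using hf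
  have : P = Ideal.span (g '' t) ⊔ RingHom.ker f := by
    apply le_antisymm
    · intro x hx
      have hfx : f x ∈ (Ideal.span (g '' t)).map f := by
        rw [Ideal.map_span, ← Set.image_comp, show f ∘ g = id from funext hg, Set.image_id]
        have h : f x ∈ P.map f := Ideal.mem_map_of_mem f hx
        rwa [← ht] at h
      obtain ⟨y, hy, hxy⟩ := (Ideal.mem_map_iff_of_surjective f (fun a => ⟨g a, hg a⟩)).1 hfx
      rw [show x = y + (x - y) by ring]
      exact Submodule.add_mem_sup hy (by rw [RingHom.mem_ker, map_sub, hxy, sub_self])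
    · refine sup_le (Ideal.span_le.2 ?_) hN
      rintro _ ⟨a, ha, rfl⟩
      have : f (g a) ∈ P.map f := by rw [hg, ← ht]; exact Submodule.subset_span ha
      obtain ⟨y, hy, hxy⟩ := (Ideal.mem_map_iff_of_surjective f (fun a => ⟨g a, hg a⟩)).1 this
      rw [show g a = y + (g a - y) by ring]
      exact add_mem hy (hN (by rw [RingHom.mem_ker, map_sub, hxy, sub_self]))
  classical
  rw [this]; exact Submodule.FG.sup ⟨t.image g, by rw [Finset.coe_image]⟩ hfg

variable (m : Ideal A) [IsAdicComplete m A]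

theorem isAdicComplete : IsAdicComplete (m.comap f) E := by
  classical
  haveI := isNoetherianRing f hf hsq hfg
  set J := m.comap f with hJ
  have hJm : J.map f = m := Ideal.map_comap_of_surjective f hf m
  have hJn : ∀ n : ℕ, ∀ a ∈ m ^ n, ∃ j ∈ J ^ n, f j = a := by
    intro n a ha
    rw [← hJm, ← Ideal.map_pow] at ha
    exact (Ideal.mem_map_iff_of_surjective f hf).1 ha
  have hfJ : ∀ (n : ℕ) (x : E), x ∈ J ^ n → f x ∈ m ^ n := by
    intro n x hx
    rw [← hJm, ← Ideal.map_pow]; exact Ideal.mem_map_of_mem f hx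
  have hNN : ∀ x ∈ RingHom.ker f, ∀ y ∈ RingHom.ker f, x * y = 0 := by
    intro x hx y hy
    have : x * y ∈ RingHom.ker f ^ 2 := by rw [pow_two]; exact Ideal.mul_mem_mul hx hy
    rwa [hsq, Ideal.mem_bot] at this
  obtain ⟨c, hc⟩ := Ideal.exists_pow_inf_eq_pow_smul J (RingHom.ker f : Submodule E E)
  have hAR : ∀ n : ℕ, ∀ x ∈ RingHom.ker f, x ∈ J ^ (n + c) → x ∈ J ^ n • (RingHom.ker f : Submodule E E) := by
    intro n x hx hxn
    have h := hc (n + c) (by omega)
    rw [Nat.add_sub_cancel] at h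
    have h1 : x ∈ J ^ (n + c) • (⊤ : Submodule E E) ⊓ (RingHom.ker f : Submodule E E) :=
      ⟨by rwa [smul_eq_mul, Ideal.mul_top], hx⟩
    rw [h] at h1
    exact Submodule.smul_mono le_rfl inf_le_right h1
  obtain ⟨k, g, hg⟩ := Submodule.fg_iff_exists_fin_generating_family.1 hfg
  have hgN : ∀ i, g i ∈ RingHom.ker f := fun i => hg ▸ Submodule.subset_span ⟨i, rfl⟩
  have hmem : ∀ (n : ℕ) (x : E), x ∈ J ^ n • (RingHom.ker f : Submodule E E) →
      ∃ a : Fin k → E, (∀ i, a i ∈ J ^ n) ∧ ∑ i, a i * g i = x := by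
    intro n x hx
    rw [← hg, Submodule.mem_ideal_smul_span_iff_exists_sum] at hx
    obtain ⟨a, ha, hax⟩ := hx
    refine ⟨a, ha, ?_⟩
    rw [← hax, Finsupp.sum_fintype]
    · simp
    · simp
  -- limits inside the kernel
  have hlimN : ∀ μ : ℕ → E, (∀ n, μ n ∈ RingHom.ker f) →
      (∀ n, μ (n + 1) - μ n ∈ J ^ n • (RingHom.ker f : Submodule E E)) →
      ∃ L, ∀ n, μ n - L ∈ J ^ n := by
    intro μ hμ hμc
    choose a ha hax using fun n => hmem n _ (hμc n)
    let s : Fin k → ℕ → A := fun i n => ∑ j ∈ Finset.range n, f (a j i)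
    have hs : ∀ i {p q : ℕ}, p ≤ q → s i p ≡ s i q [SMOD (m ^ p • ⊤ : Submodule A A)] := by
      intro i p q hpq
      rw [SModEq.sub_mem, smul_eq_mul, Ideal.mul_top, ← neg_mem_iff, neg_sub,
        ← Finset.sum_Ico_eq_sub _ hpq]
      exact Ideal.sum_mem _ fun j hj =>
        Ideal.pow_le_pow_right (Finset.mem_Ico.1 hj).1 (hfJ _ _ (ha j i))
    choose b hb using fun i => IsPrecomplete.prec (I := m) (M := A) inferInstance (hs i)
    choose b' hb' using fun i => hf (b i)
    refine ⟨μ 0 + ∑ i, b' i * g i, fun n => ?_⟩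
    have htel : μ n - μ 0 = ∑ i, (∑ j ∈ Finset.range n, a j i) * g i := by
      rw [← Finset.sum_range_sub μ n]
      simp_rw [← hax, Finset.sum_mul]
      exact Finset.sum_comm
    rw [show μ n - (μ 0 + ∑ i, b' i * g i) = (μ n - μ 0) - ∑ i, b' i * g i by ring, htel,
      ← Finset.sum_sub_distrib]
    refine Ideal.sum_mem _ fun i _ => ?_
    rw [← sub_mul]
    have h1 := (hb i) n
    rw [SModEq.sub_mem, smul_eq_mul, Ideal.mul_top] at h1
    obtain ⟨j, hj, hj'⟩ := hJn n _ h1
    have h2 : ∑ l ∈ Finset.range n, a l i - b' i - j ∈ RingHom.ker f := by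
      rw [RingHom.mem_ker, map_sub, map_sub, map_sum, hb', hj', sub_self]
    have h3 := hNN _ h2 _ (hgN i)
    rw [show (∑ l ∈ Finset.range n, a l i - b' i) * g i
      = (∑ l ∈ Finset.range n, a l i - b' i - j) * g i + j * g i by ring, h3, zero_add]
    exact Ideal.mul_mem_right _ _ hj
  have haus : IsHausdorff J E := ⟨fun x hx => by
    have hx' : ∀ n, x ∈ J ^ n := fun n => by
      have := hx n; rwa [SModEq.zero, smul_eq_mul, Ideal.mul_top] at this
    have hxi : x ∈ ⨅ n : ℕ, J ^ n • (⊤ : Submodule E E) := (Submodule.mem_iInf _).2 fun n => by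
      rw [smul_eq_mul, Ideal.mul_top]; exact hx' n
    obtain ⟨r, hr⟩ := (Ideal.mem_iInf_smul_pow_eq_bot_iff J x).1 hxi
    have hr1 : f (r : E) ∈ m := r.2
    have hu : IsUnit (1 - f (r : E)) := by
      have := (IsAdicComplete.le_jacobson_bot m) hr1
      rw [Ideal.mem_jacobson_bot] at this
      simpa [sub_eq_add_neg, add_comm] using this (-1)
    have hu' : IsUnit (1 - (r : E)) := by
      haveI : IsLocalHom f := by
        constructor
        intro z hz
        obtain ⟨w, hw⟩ := hf ↑(hz.unit⁻¹)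
        have h0 : z * w - 1 ∈ RingHom.ker f := by
          rw [RingHom.mem_ker, map_sub, map_mul, hw, IsUnit.mul_val_inv, map_one, sub_self]
        have h00 := hNN _ h0 _ h0
        exact IsUnit.of_mul_eq_one (w * (2 - z * w)) (by linear_combination -h00)
      exact IsUnit.of_map f _ (by rwa [map_sub, map_one])
    have h0 : (1 - (r : E)) * x = 0 := by
      rw [sub_mul, one_mul, ← smul_eq_mul, hr, sub_self]
    exact (hu'.mul_right_eq_zero).1 h0⟩
  have prec : IsPrecomplete J E := ⟨fun {x} hx => by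
    have hx' : ∀ {p q : ℕ}, p ≤ q → x p - x q ∈ J ^ p := fun hpq => by
      have := hx hpq; rwa [SModEq.sub_mem, smul_eq_mul, Ideal.mul_top] at this
    obtain ⟨a, ha⟩ := IsPrecomplete.prec (I := m) (M := A) inferInstance
      (f := fun n => f (x n)) (fun {p q} hpq => by
        rw [SModEq.sub_mem, smul_eq_mul, Ideal.mul_top, ← map_sub]; exact hfJ _ _ (hx' hpq))
    obtain ⟨a', rfl⟩ := hf a
    have ha' : ∀ n, f (x n - a') ∈ m ^ n := fun n => by
      have := ha n; rw [SModEq.sub_mem, smul_eq_mul, Ideal.mul_top] at this; rwa [map_sub]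
    choose j hj hjx using fun n => hJn n _ (ha' n)
    obtain ⟨L, hL⟩ := hlimN (fun n => x (n + c) - a' - j (n + c))
      (fun n => by rw [RingHom.mem_ker, map_sub, hjx, sub_self]) (fun n => by
        refine hAR n _ (sub_mem ?_ ?_) ?_
        · rw [RingHom.mem_ker, map_sub, hjx, sub_self]
        · rw [RingHom.mem_ker, map_sub, hjx, sub_self]
        · rw [show x (n + 1 + c) - a' - j (n + 1 + c) - (x (n + c) - a' - j (n + c))
            = -(x (n + c) - x (n + 1 + c)) + (j (n + c) - j (n + 1 + c)) by ring]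
          exact add_mem (neg_mem (hx' (by omega)))
            (sub_mem (hj _) (Ideal.pow_le_pow_right (by omega) (hj _))))
    refine ⟨a' + L, fun n => ?_⟩
    rw [SModEq.sub_mem, smul_eq_mul, Ideal.mul_top,
      show x n - (a' + L) = (x n - x (n + c)) + j (n + c) + (x (n + c) - a' - j (n + c) - L) by ring]
    exact add_mem (add_mem (hx' (by omega)) (Ideal.pow_le_pow_right (by omega) (hj _))) (hL n)⟩
  exact { }

end H1SqZero
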